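import Cfsg.Prelude.Def_SporadicB
import Cfsg.Agent.AltMult.Main

/-!
# Double covers of alternating groups of degree at most seven have one involution
-/

set_option autoImplicit false

namespace Cfsg.Agent.AltCover

open Equiv Equiv.Perm
open Cfsg.Agent.AltMult

variable {α : Type*} [Fintype α] [DecidableEq α]

theorem cycleType_involution (hcard : Fintype.card α ≤ 7) {d : Perm α} (hd2 : d * d = 1) (hd1 : d ≠ 1)
    (hs : sign d = 1) : d.cycleType = Multiset.replicate 2 2 := by
  have ho : orderOf d = 2 := orderOf_eq_prime (by rw [pow_two]; exact hd2) hd1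
  obtain ⟨k, hk⟩ := cycleType_prime_order (σ := d) (by rw [ho]; exact Nat.prime_two)
  rw [ho] at hk
  have hsum : 2 * (k + 1) ≤ 7 := by
    have h1 := sum_cycleType d
    rw [hk, Multiset.sum_replicate, smul_eq_mul] at h1
    have := Finset.card_le_univ d.support
    omega
  rw [sign_of_cycleType', hk, Multiset.map_replicate, Multiset.prod_replicate] at hs
  have : k = 1 := by
    have : k ≤ 2 := by omega
    interval_cases k
    · exact absurd hs (by decide)
    · rfl
    · exact absurd hs (by decide)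
  subst this
  exact hk

theorem double_swap_eq {u v p q : α} (huv : u ≠ v) (hpu : p ≠ u) (hpv : p ≠ v) (hqu : q ≠ u)
    (hqv : q ≠ v) (hpq : p ≠ q) :
    swap v q * (cyc u v p * cyc u v q) * swap v q = cyc u v p * cyc u v q := by
  ext t
  by_cases ha : t = u
  · subst ha
    simp [swap_apply_of_ne_of_ne huv hqu.symm, cyc_apply_left huv hqv.symm,
      cyc_apply_mid, swap_apply_of_ne_of_ne hpv hpq]
  by_cases hb : t = v
  · subst hb
    simp [cyc_apply_mid, cyc_apply_right hqu.symm hqv.symm, cyc_apply_left huv hpv.symm,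
      cyc_apply_of_ne hqu hqv hpq.symm]
  by_cases hc : t = p
  · subst hc
    simp [swap_apply_of_ne_of_ne hpv hpq, cyc_apply_of_ne hpu hpv hpq,
      cyc_apply_right hpu.symm hpv.symm, swap_apply_of_ne_of_ne huv hqu.symm]
  by_cases hd : t = q
  · subst hd
    simp [cyc_apply_mid, cyc_apply_right hqu.symm hqv.symm, cyc_apply_left huv hpv.symm,
      cyc_apply_of_ne hqu hqv hpq.symm]
  simp [swap_apply_of_ne_of_ne hb hd, cyc_apply_of_ne ha hb hc, cyc_apply_of_ne ha hb hd]

theorem exists_conj_involution (hcard : Fintype.card α ≤ 7) {u v p q : α} (huv : u ≠ v) (hpu : p ≠ u)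
    (hpv : p ≠ v) (hqu : q ≠ u) (hqv : q ≠ v) (hpq : p ≠ q) {d : Perm α} (hd2 : d * d = 1)
    (hd1 : d ≠ 1) (hs : sign d = 1) :
    ∃ σ : alternatingGroup α, (σ : Perm α) * (cyc u v p * cyc u v q) * (σ : Perm α)⁻¹ = d := by
  set t := cyc u v p * cyc u v q
  have ht1 : t ≠ 1 := by
    intro e
    have := congrArg (fun f : Perm α => f v) e
    simp [t, cyc_apply_mid, cyc_apply_of_ne hqu hqv hpq.symm, hqv] at this
  have ht := cycleType_involution hcard (d := t) (by rw [← pow_two]; exact cyc_mul_cyc_sq huv hpu hpv hqu hqv hpq)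
    ht1 (by simp [t, sign_cyc huv hpu.symm, sign_cyc huv hqu.symm])
  obtain ⟨σ, hσ⟩ := isConj_iff.1 (isConj_iff_cycleType_eq.2 (ht.trans (cycleType_involution hcard hd2 hd1 hs).symm))
  rcases Int.units_eq_one_or (sign σ) with h | h
  · exact ⟨⟨σ, mem_alternatingGroup.2 h⟩, hσ⟩
  · refine ⟨⟨σ * swap v q, mem_alternatingGroup.2 ?_⟩, ?_⟩
    · rw [map_mul, h, sign_swap hqv.symm]; rfl
    · show σ * swap v q * t * (σ * swap v q)⁻¹ = d
      rw [mul_inv_rev, swap_inv]
      calc σ * swap v q * t * (swap v q * σ⁻¹) = σ * (swap v q * t * swap v q) * σ⁻¹ := by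
            simp only [mul_assoc]
        _ = d := by rw [double_swap_eq huv hpu hpv hqu hqv hpq]; exact hσ

theorem involution_mem_center {H : Type*} [Group H] [Finite H] {n : ℕ} (hn : n ≤ 7)
    (hH : Cfsg.IsNonsplitDoubleCover H (alternatingGroup (Fin n))) (x : H) (hx : orderOf x = 2) :
    x ∈ Subgroup.center H := by
  classical
  obtain ⟨hZ, ⟨e⟩, hns⟩ := hH
  let π : H →* alternatingGroup (Fin n) := e.toMonoidHom.comp (QuotientGroup.mk' (Subgroup.center H))
  have hsurj : Function.Surjective π := e.surjective.comp (QuotientGroup.mk'_surjective _)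
  have hker : π.ker = Subgroup.center H := by
    ext z
    simp [π, MonoidHom.mem_ker]
  by_contra hxc
  have hx2 : x * x = 1 := by rw [← pow_two, ← hx, pow_orderOf_eq_one]
  have hd1 : π x ≠ 1 := fun h => hxc (hker ▸ MonoidHom.mem_ker.2 h)
  have hd2 : π x * π x = 1 := by rw [← map_mul, hx2, map_one]
  rcases Nat.lt_or_ge n 4 with h4 | h4
  · have hc := cycleType_involution (α := Fin n) (by simpa using hn) (congrArg Subtype.val hd2)
      (fun e => hd1 (Subtype.ext e)) (mem_alternatingGroup.1 (π x).2)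
    have h1 := sum_cycleType (π x : Perm (Fin n))
    rw [hc, Multiset.sum_replicate, smul_eq_mul] at h1
    have h2 := Finset.card_le_univ (π x : Perm (Fin n)).support
    rw [Fintype.card_fin] at h2
    omega
  obtain ⟨m, rfl⟩ : ∃ m, n = m + 2 := ⟨n - 2, by omega⟩
  -- unique lifts of order three
  have hsq : ∀ c ∈ π.ker, c * c = 1 := by
    intro c hc
    rw [hker] at hc
    have := pow_card_eq_one' (x := (⟨c, hc⟩ : Subgroup.center H))
    rw [hZ, pow_two] at this
    exact congrArg Subtype.val this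
  have hlift : ∀ i, ∃ y : H, π y = gen m i ∧ (i < m → y ^ 3 = 1) := by
    intro i
    obtain ⟨g, hg⟩ := hsurj (gen m i)
    by_cases hi : i < m
    · have hc : g ^ 3 ∈ π.ker := by
        rw [MonoidHom.mem_ker, map_pow, hg]
        exact Subtype.ext (by rw [SubgroupClass.coe_pow, gen_val hi, OneMemClass.coe_one]
                              exact cyc_pow_three zero_ne_one' (pt_ne_zero hi).symm (pt_ne_one hi).symm)
      refine ⟨g * g ^ 3, by rw [map_mul, hg, MonoidHom.mem_ker.1 hc, mul_one], fun _ => ?_⟩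
      have h6 : g ^ 3 * g ^ 3 = 1 := hsq _ hc
      calc (g * g ^ 3) ^ 3 = (g ^ 3 * g ^ 3) * (g ^ 3 * g ^ 3) := by group
        _ = 1 := by rw [h6, mul_one]
    · exact ⟨g, hg, fun h => absurd h hi⟩
  choose y hy hy3 using hlift
  have huniq : ∀ g g' : H, g ^ 3 = 1 → g' ^ 3 = 1 → π g = π g' → g = g' := by
    intro g g' h h' he
    set z := g⁻¹ * g'
    have hz : z ∈ π.ker := by simp [z, MonoidHom.mem_ker, he]
    have hg' : g' = g * z := by simp [z]
    have hc : Commute g z := Subgroup.mem_center_iff.1 (hker ▸ hz) g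
    rw [hg', hc.mul_pow, h, one_mul, pow_three, hsq z hz, mul_one] at h'
    rw [hg', h', mul_one]
  -- squares of lifts of products of two generators
  have hprod : ∀ i j, i < m → j < m → i ≠ j → (y i * y j) ^ 2 = 1 := by
    intro i j hi hj hij
    obtain ⟨σ, hσ⟩ := exists_conj_involution (α := Fin (m + 2)) (by simpa using hn)
      (u := 0) (v := 1) (p := pt m i) (q := pt m j) zero_ne_one' (pt_ne_zero hi) (pt_ne_one hi) (pt_ne_zero hj)
      (pt_ne_one hj) (fun e => hij (pt_inj hi hj e)) (d := (π x : Perm (Fin (m + 2))))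
      (congrArg Subtype.val hd2) (fun e => hd1 (Subtype.ext e)) (mem_alternatingGroup.1 (π x).2)
    obtain ⟨g, rfl⟩ := hsurj σ
    have hk : x⁻¹ * (g * (y i * y j) * g⁻¹) ∈ π.ker := by
      rw [MonoidHom.mem_ker, map_mul, map_inv, map_mul, map_mul, map_mul, map_inv, hy, hy, inv_mul_eq_one]
      exact Subtype.ext (by simpa [gen_val hi, gen_val hj] using hσ.symm)
    set c := x⁻¹ * (g * (y i * y j) * g⁻¹)
    have he : g * (y i * y j) * g⁻¹ = x * c := by simp [c]
    have hcomm : Commute x c := Subgroup.mem_center_iff.1 (hker ▸ hk) x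
    have : g * (y i * y j) ^ 2 * g⁻¹ = 1 := by
      rw [← conj_pow, he, hcomm.mul_pow, pow_two, hx2, pow_two, hsq c hk, mul_one]
    rwa [conj_eq_one_iff] at this
  set L := Subgroup.closure (y '' Set.Iio m)
  have hmap : L.map π = ⊤ :=
    gen_closure _ fun i hi => ⟨y i, Subgroup.subset_closure ⟨i, hi, rfl⟩, hy i⟩
  have hL := two_mul_card_closure_le m y hy3 hprod
  have hA : 2 * Nat.card (alternatingGroup (Fin (m + 2))) = (m + 2).factorial := by
    rw [two_mul_nat_card_alternatingGroup, Nat.card_perm, Nat.card_fin]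
  have hLA : Nat.card L ≤ Nat.card (alternatingGroup (Fin (m + 2))) := by
    change 2 * Nat.card L ≤ _ at hL
    omega
  have hsurjL : Function.Surjective (π.comp L.subtype) := by
    intro a
    obtain ⟨l, hl, e'⟩ := (hmap ▸ Subgroup.mem_top a : a ∈ L.map π)
    exact ⟨⟨l, hl⟩, e'⟩
  have hbij : Function.Bijective (π.comp L.subtype) :=
    (Nat.bijective_iff_surjective_and_card _).2
      ⟨hsurjL, le_antisymm hLA (Nat.card_le_card_of_surjective _ hsurjL)⟩
  refine hns L (Subgroup.isComplement'_of_disjoint_and_mul_eq_univ ?_ ?_)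
  · rw [Subgroup.disjoint_def]
    intro a ha hal
    have : π.comp L.subtype ⟨a, hal⟩ = π.comp L.subtype 1 := by
      rw [map_one]
      exact (hker.symm ▸ ha : a ∈ π.ker)
    exact congrArg Subtype.val (hbij.1 this)
  · refine Set.eq_univ_of_forall fun a => ?_
    obtain ⟨⟨l, hl⟩, e'⟩ := hsurjL (π a)
    refine ⟨a * l⁻¹, hker ▸ ?_, l, hl, by simp⟩
    simp [MonoidHom.mem_ker, show π l = π a from e']

end Cfsg.Agent.AltCover
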